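import Groth.Agent.BirFinite.Basic
import Mathlib

/-!
# Isomorphism over a normal codimension one point of a flat birational morphism

Algebra (`denominators_dvr`) and scheme form (`exists_isIso_nhd`).
-/

set_option autoImplicit false
universe u

open CategoryTheory AlgebraicGeometry TopologicalSpace

namespace Groth.Agent.Models24.DVRPoint

variable {A : Type u} [CommRing A] (p : Ideal A) [p.IsPrime]

/-- The algebraic core: over a discrete valuation ring `A_p`, a `ϖ`-torsion free algebra which has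
fractions over the generic point has fractions over `p`. -/
theorem denominators_dvr [IsDomain (Localization.AtPrime p)] [IsDiscreteValuationRing (Localization.AtPrime p)]
    (ϖ : A) (hϖp : ϖ ∈ p) (hϖ0 : algebraMap A (Localization.AtPrime p) ϖ ≠ 0)
    {B : Type u} [CommRing B] [Algebra A B] (hreg : ∀ b : B, algebraMap A B ϖ * b = 0 → b = 0)
    (q : Ideal B) [q.IsPrime] (hq : q.comap (algebraMap A B) = p)
    (hgen : ∀ b : B, ∃ s a : A, algebraMap A (Localization.AtPrime p) s ≠ 0 ∧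
      algebraMap A B s * b = algebraMap A B a) :
    (∀ a : A, algebraMap A B a = 0 → algebraMap A (Localization.AtPrime p) a = 0) ∧
      ∀ b : B, ∃ s a : A, s ∉ p ∧ algebraMap A B s * b = algebraMap A B a := by
  let T := Localization.AtPrime p
  let φ : A →+* T := algebraMap A T
  let ψ : A →+* B := algebraMap A B
  obtain ⟨π, hπ⟩ := IsDiscreteValuationRing.exists_irreducible T
  obtain ⟨e, u, hu⟩ := IsDiscreteValuationRing.eq_unit_mul_pow_irreducible hϖ0 hπ
  have he : 1 ≤ e := by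
    rcases e with _ | e
    · have : IsUnit (φ ϖ) := by
        change IsUnit (algebraMap A T ϖ)
        rw [hu, pow_zero, mul_one]
        exact u.isUnit
      exact absurd hϖp ((IsLocalization.AtPrime.isUnit_to_map_iff T p ϖ).mp this)
    · omega
  have hdvd : ∀ x : T, x ≠ 0 → ∃ k : ℕ, x ∣ φ ϖ ^ k := by
    intro x hx
    obtain ⟨n, v, rfl⟩ := IsDiscreteValuationRing.eq_unit_mul_pow_irreducible hx hπ
    refine ⟨n, v.isUnit.mul_left_dvd.mpr ?_⟩
    change π ^ n ∣ (algebraMap A T ϖ) ^ n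
    rw [hu, mul_pow, ← pow_mul]
    exact Dvd.dvd.mul_left (pow_dvd_pow π (Nat.le_mul_of_pos_left n he)) _
  have heq : ∀ x y : A, φ x = φ y → ∃ s, s ∉ p ∧ s * x = s * y := fun x y h =>
    ((IsLocalization.eq_iff_exists p.primeCompl T).mp h).imp' Subtype.val fun c hc => ⟨c.2, hc⟩
  have hlift : ∀ x y : A, φ x ∣ φ y → ∃ s c : A, s ∉ p ∧ s * y = x * c := by
    rintro x y ⟨z, hz⟩
    obtain ⟨c, t, rfl⟩ := IsLocalization.exists_mk'_eq p.primeCompl z
    have : φ (t.1 * y) = φ (x * c) := by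
      rw [map_mul, map_mul, hz, mul_left_comm]
      congr 1
      exact IsLocalization.mk'_spec' T c t
    obtain ⟨s, hs, h⟩ := heq _ _ this
    exact ⟨s * t.1, s * c, fun h' => (Ideal.IsPrime.mem_or_mem inferInstance h').elim hs t.2,
      by rw [mul_assoc, h]; ring⟩
  have hregk : ∀ (k : ℕ) (b : B), ψ ϖ ^ k * b = 0 → b = 0 := by
    intro k
    induction k with
    | zero => intro b hb; rwa [pow_zero, one_mul] at hb
    | succ n ih => intro b hb; exact ih b (hreg _ (by rw [← hb, pow_succ']; ring))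
  have hnp : ∀ s : A, s ∉ p → ψ s ≠ 0 := fun s hs h => hs (hq ▸ (show ψ s ∈ q from h ▸ q.zero_mem))
  refine ⟨fun a ha => ?_, fun b => ?_⟩
  · by_contra hane
    obtain ⟨k, hk⟩ := hdvd _ hane
    obtain ⟨s, c, hs, h⟩ := hlift a (ϖ ^ k) (by rw [map_pow]; exact hk)
    refine hnp s hs (hregk k _ ?_)
    have := congrArg ψ h
    rw [map_mul, map_mul, map_pow, show ψ a = 0 from ha, zero_mul] at this
    rw [mul_comm]
    exact this
  · obtain ⟨s₀, a₀, hs₀, hb⟩ := hgen b
    obtain ⟨k, hk⟩ := hdvd _ hs₀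
    obtain ⟨u₀, c₀, hu₀, hc₀⟩ := hlift s₀ (ϖ ^ k) (by rw [map_pow]; exact hk)
    have h1 : ψ u₀ * ψ ϖ ^ k * b = ψ (c₀ * a₀) := by
      rw [← map_pow, ← map_mul, hc₀, map_mul, map_mul, mul_comm (ψ s₀), mul_assoc, hb]
    rcases ValuationRing.dvd_total (φ (ϖ ^ k)) (φ (c₀ * a₀)) with h | h
    · obtain ⟨u₁, c₁, hu₁, hc₁⟩ := hlift _ _ h
      refine ⟨u₁ * u₀, c₁, fun h' => (Ideal.IsPrime.mem_or_mem inferInstance h').elim hu₁ hu₀, ?_⟩
      refine sub_eq_zero.mp (hregk k _ ?_)
      have h2 := congrArg ψ hc₁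
      rw [map_mul ψ u₁, map_mul ψ (ϖ ^ k), map_pow, ← h1] at h2
      rw [map_mul]
      linear_combination h2
    · obtain ⟨u₁, c₁, hu₁, hc₁⟩ := hlift _ _ h
      have h2 := congrArg ψ hc₁
      rw [map_mul ψ u₁, map_mul ψ (c₀ * a₀), map_pow, ← h1] at h2
      have h3 : ψ u₁ = ψ u₀ * b * ψ c₁ := sub_eq_zero.mp (hregk k _ (by linear_combination h2))
      by_cases hc1 : c₁ ∈ p
      · exact absurd (hq ▸ (show ψ u₁ ∈ q from h3 ▸ q.mul_mem_left _ (show c₁ ∈ q.comap ψ from hq.symm ▸ hc1))) hu₁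
      · exact ⟨u₀ * c₁, u₁, fun h' => (Ideal.IsPrime.mem_or_mem inferInstance h').elim hu₀ hc1,
          by rw [h3, map_mul]; ring⟩

variable {R : Type u} [CommRing R] [IsNoetherianRing R]

/-- A flat morphism which is an isomorphism away from `ϖ = 0` is an isomorphism near a point with
discrete valuation local ring. -/
theorem exists_isIso_nhd {C Z : Scheme.{u}} (πC : C ⟶ Spec (CommRingCat.of R)) [Flat πC]
    [LocallyOfFiniteType πC] (g : Z ⟶ C) [IsProper g] [Flat (g ≫ πC)] (ϖ : R)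
    (hϖ : ∀ r : R, ϖ * r = 0 → r = 0)
    (hgen : IsIso (g ∣_ (πC ⁻¹ᵁ (PrimeSpectrum.basicOpen ϖ))))
    (c : C) (hdom : IsDomain (C.presheaf.stalk c)) (hnorm : IsIntegrallyClosed (C.presheaf.stalk c))
    (hdim : ringKrullDim (C.presheaf.stalk c) = 1) :
    ∃ V : C.Opens, c ∈ V ∧ IsIso (g ∣_ V) := by
  classical
  haveI : IsLocallyNoetherian C := LocallyOfFiniteType.isLocallyNoetherian πC
  set D : C.Opens := πC ⁻¹ᵁ (PrimeSpectrum.basicOpen ϖ) with hD
  by_cases hcD : c ∈ D
  · exact ⟨D, hcD, hgen⟩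
  let T := C.presheaf.stalk c
  haveI : IsDiscreteValuationRing T := by
    haveI : Ring.KrullDimLE 1 T := Ring.krullDimLE_iff.mpr (by rw [hdim]; rfl)
    have hnf : ¬ IsField T := fun h => by
      rw [ringKrullDim_eq_zero_of_isField h] at hdim
      exact zero_ne_one hdim
    haveI : IsDedekindDomain T :=
      { __ := (inferInstance : IsNoetherianRing T)
        maximalOfPrime := fun {P} h0 hP => Ring.krullDimLE_one_iff_of_noZeroDivisors.mp ‹_› P h0 hP }
    exact ((IsDiscreteValuationRing.TFAE T hnf).out 2 0).mp (inferInstance : IsDedekindDomain T)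
  -- the data of an affine piece
  have piece : ∀ (U : C.Opens) (hU : IsAffineOpen U) (hcU : c ∈ U) (W : Z.Opens) (hW : IsAffineOpen W)
      (e : W ≤ g ⁻¹ᵁ U) (z : Z) (hzW : z ∈ W), g z = c →
      (∀ a, g.appLE U W e a = 0 → C.presheaf.germ U c hcU a = 0) ∧
      ∀ b, ∃ s a, IsUnit (C.presheaf.germ U c hcU s) ∧ g.appLE U W e s * b = g.appLE U W e a := by
    intro U hU hcU W hW e z hzW hzc
    let A := Γ(C, U)
    letI := (g.appLE U W e).hom.toAlgebra
    let p := (hU.primeIdealOf ⟨c, hcU⟩).asIdeal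
    letI := C.presheaf.algebra_section_stalk (⟨c, hcU⟩ : U)
    haveI := hU.isLocalization_stalk ⟨c, hcU⟩
    let ET : T ≃ₐ[A] Localization.AtPrime p := IsLocalization.algEquiv p.primeCompl _ _
    haveI : IsDomain (Localization.AtPrime p) := ET.symm.toMulEquiv.isDomain _
    haveI : IsDiscreteValuationRing (Localization.AtPrime p) :=
      IsDiscreteValuationRing.RingEquivClass.isDiscreteValuationRing ET
    -- structure maps from the base
    let ρ : CommRingCat.of R ⟶ Γ(C, U) := Spec.preimage (hU.fromSpec ≫ πC)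
    have hρ : Spec.map ρ = hU.fromSpec ≫ πC := Spec.map_preimage _
    let σ : CommRingCat.of R ⟶ Γ(Z, W) := ρ ≫ g.appLE U W e
    have hσ : Spec.map σ = hW.fromSpec ≫ g ≫ πC := by
      rw [Spec.map_comp, hρ, ← Category.assoc, IsAffineOpen.SpecMap_appLE_fromSpec g hU hW e, Category.assoc]
    have hflat : ∀ {S : CommRingCat.{u}} (τ : CommRingCat.of R ⟶ S), Flat (Spec.map τ) →
        ∀ b : S, τ ϖ * b = 0 → b = 0 := by
      intro S τ hτ b hb
      rw [HasRingHomProperty.Spec_iff (P := @Flat)] at hτ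
      letI := τ.hom.toAlgebra
      haveI : Module.Flat R S := hτ
      have hr : IsSMulRegular S ϖ := Module.Flat.isSMulRegular_of_isRegular ⟨fun x y h => by
        refine sub_eq_zero.mp (hϖ _ ?_)
        rw [mul_sub, sub_eq_zero]; exact h, fun x y h => by
        refine sub_eq_zero.mp (hϖ _ ?_)
        rw [mul_sub, sub_eq_zero, mul_comm ϖ, mul_comm ϖ]; exact h⟩
      refine hr (show ϖ • b = ϖ • 0 by rw [smul_zero, Algebra.smul_def]; exact hb)
    have hregA := hflat ρ (hρ.symm ▸ inferInstance)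
    have hregB := hflat σ (hσ.symm ▸ inferInstance)
    have hmemD : ∀ w : PrimeSpectrum A, hU.fromSpec w ∈ D ↔ ρ ϖ ∉ w.asIdeal := by
      intro w
      have : πC (hU.fromSpec w) = Spec.map ρ w := by rw [hρ]; rfl
      change πC (hU.fromSpec w) ∈ PrimeSpectrum.basicOpen ϖ ↔ _
      rw [this]
      rfl
    have hϖp : ρ ϖ ∈ p := by
      by_contra h
      apply hcD
      have := (hmemD _).mpr h
      rwa [hU.fromSpec_primeIdealOf ⟨c, hcU⟩] at this
    have hϖ0 : algebraMap A (Localization.AtPrime p) (ρ ϖ) ≠ 0 := by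
      intro h
      obtain ⟨⟨s, hs⟩, h2⟩ := (IsLocalization.map_eq_zero_iff p.primeCompl _ _).mp h
      have h3 : s = 0 := hregA s (by rw [mul_comm]; exact h2)
      exact hs (h3.symm ▸ p.zero_mem)
    let qz := (hW.primeIdealOf ⟨z, hzW⟩).asIdeal
    have hqz : qz.comap (algebraMap A Γ(Z, W)) = p := by
      refine (congr($(IsAffineOpen.comap_primeIdealOf_appLE U hU W hW e hzW).1)).trans ?_
      exact congrArg (fun y => (hU.primeIdealOf y).asIdeal) (Subtype.ext hzc)
    -- the generic prime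
    let P0 := RingHom.ker (algebraMap A (Localization.AtPrime p))
    haveI : P0.IsPrime := RingHom.ker_isPrime _
    have hP0 : ∀ Q : Ideal A, Q.IsPrime → Q ≤ p → P0 ≤ Q := by
      intro Q hQ hQp x hx
      obtain ⟨⟨s, hs⟩, h⟩ := (IsLocalization.map_eq_zero_iff p.primeCompl _ _).mp (RingHom.mem_ker.mp hx)
      exact (hQ.mem_or_mem (show s * x ∈ Q from (show s * x = 0 from h) ▸ Q.zero_mem)).resolve_left
        fun h' => hs (hQp h')
    have hP0p : P0 ≤ p := fun x hx => by
      by_contra h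
      exact (IsLocalization.map_units (Localization.AtPrime p) (⟨x, h⟩ : p.primeCompl)).ne_zero hx
    have hgen' : ∀ b : Γ(Z, W), ∃ s a : A, algebraMap A (Localization.AtPrime p) s ≠ 0 ∧
        algebraMap A Γ(Z, W) s * b = algebraMap A Γ(Z, W) a := by
      intro b
      let x₀ : C := hU.fromSpec ⟨P0, inferInstance⟩
      have hx₀ : x₀ ∈ D := (hmemD _).mpr fun h => hϖ0 h
      have hx₀U : x₀ ∈ U := by
        have := Set.mem_range_self (f := hU.fromSpec) (⟨P0, inferInstance⟩ : PrimeSpectrum A)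
        rwa [hU.range_fromSpec] at this
      have hover : ∀ w : W, (hW.primeIdealOf w).asIdeal.comap (algebraMap A Γ(Z, W)) = P0 → g w.1 = x₀ := by
        intro w hw
        have h := congr($(IsAffineOpen.comap_primeIdealOf_appLE U hU W hW e w.2).1)
        exact (hU.fromSpec_primeIdealOf ⟨g w.1, e w.2⟩).symm.trans (congrArg hU.fromSpec (PrimeSpectrum.ext (h.symm.trans hw)))
      -- fractions at a point over the generic point
      have main : ∀ (w : W), (hW.primeIdealOf w).asIdeal.comap (algebraMap A Γ(Z, W)) = P0 →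
          ∃ s a u, s ∉ P0 ∧ u ∉ (hW.primeIdealOf w).asIdeal ∧
            u * (algebraMap A Γ(Z, W) s * b - algebraMap A Γ(Z, W) a) = 0 := by
        intro w hw
        have hwD : g w.1 ∈ D := (hover w hw).symm ▸ hx₀
        haveI := hgen
        have hsurj : Function.Surjective (g.stalkMap w.1).hom := by
          have h1 : IsIso ((g ∣_ D).stalkMap ⟨w.1, hwD⟩) := inferInstance
          have h2 := ((morphismRestrictStalkMap g D ⟨w.1, hwD⟩))
          have : IsIso (g.stalkMap w.1) :=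
            (MorphismProperty.isomorphisms CommRingCat).arrow_mk_iso_iff h2 |>.mp h1
          exact (ConcreteCategory.bijective_of_isIso (g.stalkMap w.1)).2
        obtain ⟨y, hy⟩ := hsurj (Z.presheaf.germ W w.1 w.2 b)
        letI := C.presheaf.algebra_section_stalk (⟨g w.1, e w.2⟩ : U)
        haveI := hU.isLocalization_stalk ⟨g w.1, e w.2⟩
        obtain ⟨a, ⟨s, hs⟩, rfl⟩ := IsLocalization.exists_mk'_eq (hU.primeIdealOf ⟨g w.1, e w.2⟩).asIdeal.primeCompl y
        letI := Z.presheaf.algebra_section_stalk w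
        haveI := hW.isLocalization_stalk w
        have hsP : s ∉ P0 := by
          have h := congr($(IsAffineOpen.comap_primeIdealOf_appLE U hU W hW e w.2).1)
          rw [← hw]
          intro h'
          exact hs (h ▸ h')
        have key : ∀ r : A, (g.stalkMap w.1).hom (C.presheaf.germ U (g w.1) (e w.2) r) =
            Z.presheaf.germ W w.1 w.2 (g.appLE U W e r) := by
          intro r
          rw [Scheme.Hom.appLE, CommRingCat.comp_apply, TopCat.Presheaf.germ_res_apply]
          exact Scheme.Hom.germ_stalkMap_apply g U w.1 (e w.2) r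
        have h1 : algebraMap Γ(Z, W) (Z.presheaf.stalk w.1) (algebraMap A Γ(Z, W) s * b) =
            algebraMap Γ(Z, W) (Z.presheaf.stalk w.1) (algebraMap A Γ(Z, W) a) := by
          rw [map_mul]
          change Z.presheaf.germ W w.1 w.2 (g.appLE U W e s) * Z.presheaf.germ W w.1 w.2 b =
            Z.presheaf.germ W w.1 w.2 (g.appLE U W e a)
          rw [← key, ← key, ← hy, ← map_mul]
          exact congrArg _ (IsLocalization.mk'_spec' (C.presheaf.stalk (g w.1)) a ⟨s, hs⟩)
        obtain ⟨⟨u, hu⟩, hu2⟩ := (IsLocalization.eq_iff_exists (hW.primeIdealOf w).asIdeal.primeCompl _).mp h1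
        exact ⟨s, a, u, hsP, hu, by rw [mul_sub, sub_eq_zero]; exact hu2⟩
      -- pass to a denominator in the base
      have spread : ∀ s a : A, (∀ w : W, (hW.primeIdealOf w).asIdeal.comap (algebraMap A Γ(Z, W)) = P0 →
          ∃ u ∉ (hW.primeIdealOf w).asIdeal, u * (algebraMap A Γ(Z, W) s * b - algebraMap A Γ(Z, W) a) = 0) →
          s ∉ P0 → ∃ s a : A, algebraMap A (Localization.AtPrime p) s ≠ 0 ∧
            algebraMap A Γ(Z, W) s * b = algebraMap A Γ(Z, W) a := by
        intro s a hw hs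
        let δ := algebraMap A Γ(Z, W) s * b - algebraMap A Γ(Z, W) a
        let J := Submodule.colon (⊥ : Ideal Γ(Z, W)) {δ}
        by_cases hd : Disjoint (J : Set Γ(Z, W)) (Algebra.algebraMapSubmonoid Γ(Z, W) P0.primeCompl : Set Γ(Z, W))
        · obtain ⟨Q, hQ, hJQ, hQd⟩ := Ideal.exists_le_prime_disjoint J _ hd
          have hle : Q.comap (algebraMap A Γ(Z, W)) ≤ P0 := fun x hx => by
            by_contra h
            exact Set.disjoint_left.mp hQd hx ⟨x, h, rfl⟩
          have hQ0 : Q.comap (algebraMap A Γ(Z, W)) = P0 :=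
            le_antisymm hle (hP0 _ (Ideal.IsPrime.comap _) (hle.trans hP0p))
          let w : W := ⟨hW.fromSpec ⟨Q, hQ⟩, (Set.ext_iff.mp hW.range_fromSpec _).mp ⟨⟨Q, hQ⟩, rfl⟩⟩
          have hwQ : (hW.primeIdealOf w).asIdeal = Q :=
            congrArg PrimeSpectrum.asIdeal (hW.fromSpec.isOpenEmbedding.injective (hW.fromSpec_primeIdealOf w))
          obtain ⟨u, hu, hu2⟩ := hw w (hwQ ▸ hQ0)
          exact absurd (hJQ (Submodule.mem_colon_singleton.mpr (by simpa [δ, smul_eq_mul] using hu2))) (hwQ ▸ hu)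
        · obtain ⟨_, hr, ⟨r, hr0, rfl⟩⟩ := Set.not_disjoint_iff.mp hd
          refine ⟨r * s, r * a, fun h => (Ideal.IsPrime.mem_or_mem inferInstance (show r * s ∈ P0 from h)).elim hr0 hs, ?_⟩
          have hr' := Submodule.mem_colon_singleton.mp hr
          simp only [δ, Submodule.mem_bot, smul_eq_mul, mul_sub, sub_eq_zero] at hr'
          rw [map_mul, map_mul, mul_assoc, hr']
      by_cases hw : ∃ w : W, (hW.primeIdealOf w).asIdeal.comap (algebraMap A Γ(Z, W)) = P0
      · obtain ⟨w, hw⟩ := hw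
        obtain ⟨s, a, u, hs, hu, hu2⟩ := main w hw
        refine spread s a (fun w' hw' => ?_) hs
        have : w' = w := Subtype.ext (by
          have h1 : g w'.1 = g w.1 := (hover w' hw').trans (hover w hw).symm
          haveI := hgen
          have hwD : g w.1 ∈ D := (hover w hw).symm ▸ hx₀
          have hwD' : g w'.1 ∈ D := by rw [h1]; exact hwD
          have h2 : (g ∣_ D) ⟨w'.1, hwD'⟩ = (g ∣_ D) ⟨w.1, hwD⟩ := by
            apply D.ι.isOpenEmbedding.injective
            rw [← Scheme.Hom.comp_apply, ← Scheme.Hom.comp_apply, morphismRestrict_ι]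
            exact h1
          have h3 := (g ∣_ D).isOpenEmbedding.injective h2
          exact congrArg (fun v => v.1) h3)
        exact ⟨u, this ▸ hu, hu2⟩
      · exact spread 1 0 (fun w hw' => absurd ⟨w, hw'⟩ hw) (fun h => (Ideal.IsPrime.ne_top (I := P0) inferInstance) (P0.eq_top_of_isUnit_mem h isUnit_one))
    obtain ⟨h1, h2⟩ := denominators_dvr p (ρ ϖ) hϖp hϖ0 (B := Γ(Z, W)) hregB qz hqz hgen'
    refine ⟨fun a ha => ?_, fun b => ?_⟩
    · have := congrArg ET.symm (h1 a ha)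
      rwa [map_zero, AlgEquiv.commutes] at this
    · obtain ⟨s, a, hs, h⟩ := h2 b
      exact ⟨s, a, (IsLocalization.AtPrime.isUnit_to_map_iff T p s).mpr hs, h⟩
  obtain ⟨_, ⟨U, hU, rfl⟩, hcU, -⟩ :=
    C.isBasis_affineOpens.exists_subset_of_mem_open (Set.mem_univ c) isOpen_univ
  -- the fibre is finite
  have hfin : (g ⁻¹' {c}).Finite := by
    obtain ⟨t, ht⟩ := (QuasiCompact.isCompact_preimage (f := g) U U.2 hU.isCompact).elim_finite_subcover
      (fun W : {W : Z.affineOpens // W.1 ≤ g ⁻¹ᵁ U} => (W.1.1 : Set Z)) (fun W => W.1.1.2) fun z hz => by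
        obtain ⟨_, ⟨W, hW, rfl⟩, hzW, hWU⟩ := Z.isBasis_affineOpens.exists_subset_of_mem_open hz (g ⁻¹ᵁ U).2
        exact Set.mem_iUnion.mpr ⟨⟨⟨W, hW⟩, hWU⟩, hzW⟩
    refine Set.Finite.subset (s := ⋃ W ∈ t, (W.1.1 : Set Z) ∩ g ⁻¹' {c}) (t.finite_toSet.biUnion fun W _ => ?_)
      fun z hz => ?_
    · refine Set.Subsingleton.finite fun z₁ h₁ z₂ h₂ => ?_
      obtain ⟨W, hWU⟩ := W
      obtain ⟨-, hb⟩ := piece U hU hcU W.1 W.2 hWU z₁ h₁.1 h₁.2
      letI := (g.appLE U W.1 hWU).hom.toAlgebra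
      have hp : ∀ z (hz : z ∈ W.1), g z = c →
          (W.2.primeIdealOf ⟨z, hz⟩).asIdeal.comap (g.appLE U W.1 hWU).hom = (hU.primeIdealOf ⟨c, hcU⟩).asIdeal := by
        intro z hz hzc
        refine (congr($(IsAffineOpen.comap_primeIdealOf_appLE U hU W.1 W.2 hWU hz).1)).trans ?_
        exact congrArg (fun y => (hU.primeIdealOf y).asIdeal) (Subtype.ext hzc)
      letI := C.presheaf.algebra_section_stalk (⟨c, hcU⟩ : U)
      haveI := hU.isLocalization_stalk ⟨c, hcU⟩
      suffices hsuf : (W.2.primeIdealOf ⟨z₁, h₁.1⟩) = W.2.primeIdealOf ⟨z₂, h₂.1⟩ by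
        exact (W.2.fromSpec_primeIdealOf ⟨z₁, h₁.1⟩).symm.trans ((congrArg W.2.fromSpec hsuf).trans (W.2.fromSpec_primeIdealOf ⟨z₂, h₂.1⟩))
      refine PrimeSpectrum.ext (Ideal.ext fun b => ?_)
      obtain ⟨s, a, hs, hsa⟩ := hb b
      have hs' := (IsLocalization.AtPrime.isUnit_to_map_iff (C.presheaf.stalk c) (hU.primeIdealOf ⟨c, hcU⟩).asIdeal s).mp hs
      have key : ∀ z (hz : z ∈ W.1) (hzc : g z = c),
          (b ∈ (W.2.primeIdealOf ⟨z, hz⟩).asIdeal ↔ a ∈ (hU.primeIdealOf ⟨c, hcU⟩).asIdeal) := by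
        intro z hz hzc
        rw [← hp z hz hzc, Ideal.mem_comap]
        change _ ↔ g.appLE U W.1 hWU a ∈ _
        rw [← hsa]
        exact ⟨fun h => Ideal.mul_mem_left _ _ h, fun h =>
          ((Ideal.IsPrime.mem_or_mem inferInstance h).resolve_left fun h' => hs' (by
            rw [← hp z hz hzc]; exact h'))⟩
      exact (key z₁ h₁.1 h₁.2).trans (key z₂ h₂.1 h₂.2).symm
    · obtain ⟨W, hW, hzW⟩ := Set.mem_iUnion₂.mp (ht (show g z ∈ U from (show g z = c from hz).symm ▸ hcU))
      exact Set.mem_iUnion₂.mpr ⟨W, hW, hzW, hz⟩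
  obtain ⟨V₁, hcV₁, hV₁⟩ := exists_isFinite_morphismRestrict_of_finite_preimage_singleton g c hfin
  obtain ⟨_, ⟨V, hV, rfl⟩, hcV, hVV₁⟩ :=
    C.isBasis_affineOpens.exists_subset_of_mem_open hcV₁ V₁.2
  haveI : IsNoetherianRing Γ(C, V) := IsLocallyNoetherian.component_noetherian ⟨V, hV⟩
  -- shrink so that the germ at `c` is injective
  obtain ⟨G, hG⟩ := IsNoetherian.noetherian (RingHom.ker (C.presheaf.germ V c hcV).hom)
  letI := C.presheaf.algebra_section_stalk (⟨c, hcV⟩ : V)
  haveI := hV.isLocalization_stalk ⟨c, hcV⟩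
  have hk : ∀ x ∈ G, ∃ s : Γ(C, V), s ∉ (hV.primeIdealOf ⟨c, hcV⟩).asIdeal ∧ s * x = 0 := by
    intro x hx
    have hmem : x ∈ RingHom.ker (C.presheaf.germ V c hcV).hom := hG ▸ Submodule.subset_span hx
    obtain ⟨⟨s, hs⟩, h⟩ := (IsLocalization.map_eq_zero_iff (hV.primeIdealOf ⟨c, hcV⟩).asIdeal.primeCompl
      (C.presheaf.stalk c) x).mp hmem
    exact ⟨s, hs, h⟩
  choose! s hs hsx using hk
  let S := ∏ x ∈ G, s x
  have hSc : c ∈ C.basicOpen S := by
    rw [C.mem_basicOpen S c hcV]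
    exact (IsLocalization.AtPrime.isUnit_to_map_iff (C.presheaf.stalk c) (hV.primeIdealOf ⟨c, hcV⟩).asIdeal S).mpr fun h => by
      obtain ⟨x, hx, h'⟩ := Ideal.IsPrime.prod_mem_iff.mp h
      exact hs x hx h'
  have hkill : ∀ x ∈ RingHom.ker (C.presheaf.germ V c hcV).hom, S * x = 0 := by
    intro x hx
    rw [← hG] at hx
    induction hx using Submodule.span_induction with
    | mem x hx =>
      obtain ⟨d, hd⟩ := Finset.dvd_prod_of_mem s hx
      rw [show S = s x * d from hd, mul_right_comm, hsx x hx, zero_mul]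
    | zero => rw [mul_zero]
    | add x y _ _ h h' => rw [mul_add, h, h', add_zero]
    | smul r x _ h => rw [smul_eq_mul, mul_left_comm, h, mul_zero]
  let U' := C.basicOpen S
  have hU' : IsAffineOpen U' := hV.basicOpen S
  have hinjU' : Function.Injective (C.presheaf.germ U' c hSc).hom := by
    haveI := hV.isLocalization_basicOpen S
    refine (injective_iff_map_eq_zero _).mpr fun y hy => ?_
    obtain ⟨x, ⟨_, n, rfl⟩, rfl⟩ := IsLocalization.exists_mk'_eq (Submonoid.powers S) y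
    have h1 : C.presheaf.germ U' c hSc (algebraMap Γ(C, V) Γ(C, U') x) = 0 := by
      rw [← IsLocalization.mk'_spec Γ(C, U') x (⟨S ^ n, n, rfl⟩ : Submonoid.powers S), map_mul, hy, zero_mul]
    have h2 : x ∈ RingHom.ker (C.presheaf.germ V c hcV).hom := by
      rw [RingHom.mem_ker, ← h1]
      exact (C.presheaf.germ_res_apply (homOfLE (C.basicOpen_le S)) c hSc x).symm
    rw [IsLocalization.mk'_eq_zero_iff]
    exact ⟨⟨S, 1, pow_one S⟩, hkill x h2⟩
  haveI : IsAffineHom (g ∣_ V₁) := inferInstance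
  have hWaff : IsAffineOpen (g ⁻¹ᵁ U') := by
    have hle : U' ≤ V₁ := (C.basicOpen_le S).trans hVV₁
    have h := (hU'.preimage_of_isOpenImmersion V₁.ι (by rw [Scheme.Opens.opensRange_ι]; exact hle)).preimage (g ∣_ V₁)
    have h2 := h.image_of_isOpenImmersion (g ⁻¹ᵁ V₁).ι
    rwa [image_morphismRestrict_preimage, Scheme.Hom.image_preimage_eq_opensRange_inf,
      Scheme.Opens.opensRange_ι, inf_eq_right.mpr hle] at h2
  -- a point over `c`
  obtain ⟨z, hz⟩ : ∃ z, g z = c := by
    have hcl : IsClosed (Set.range g) := g.isClosedMap.isClosed_range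
    letI := C.presheaf.algebra_section_stalk (⟨c, hSc⟩ : U')
    haveI := hU'.isLocalization_stalk ⟨c, hSc⟩
    haveI : IsDomain Γ(C, U') := Function.Injective.isDomain (C.presheaf.germ U' c hSc).hom hinjU'
    let η : C := hU'.fromSpec (⟨⊥, Ideal.isPrime_bot⟩ : PrimeSpectrum Γ(C, U'))
    have hηD : η ∈ D := by
      let ρ : CommRingCat.of R ⟶ Γ(C, U') := Spec.preimage (hU'.fromSpec ≫ πC)
      have hρ : Spec.map ρ = hU'.fromSpec ≫ πC := Spec.map_preimage _
      have : πC η = Spec.map ρ ⟨⊥, Ideal.isPrime_bot⟩ := by rw [hρ]; rfl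
      change πC η ∈ PrimeSpectrum.basicOpen ϖ
      rw [this]
      intro h
      have h0 : ρ ϖ = 0 := h
      have hflat : Flat (Spec.map ρ) := hρ.symm ▸ inferInstance
      rw [HasRingHomProperty.Spec_iff (P := @Flat)] at hflat
      letI := ρ.hom.toAlgebra
      haveI : Module.Flat R Γ(C, U') := hflat
      have hr : IsSMulRegular Γ(C, U') ϖ := Module.Flat.isSMulRegular_of_isRegular ⟨fun x y h => by
        refine sub_eq_zero.mp (hϖ _ ?_)
        rw [mul_sub, sub_eq_zero]; exact h, fun x y h => by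
        refine sub_eq_zero.mp (hϖ _ ?_)
        rw [mul_sub, sub_eq_zero, mul_comm ϖ, mul_comm ϖ]; exact h⟩
      exact one_ne_zero (hr (show ϖ • (1 : Γ(C, U')) = ϖ • 0 by
        rw [smul_zero, Algebra.smul_def, mul_one]; exact h0))
    haveI := hgen
    obtain ⟨w, hw⟩ := (g ∣_ D).surjective ⟨η, hηD⟩
    have hw' : g w.1 = η := by
      have := congrArg D.ι hw
      rw [← Scheme.Hom.comp_apply, morphismRestrict_ι] at this
      exact this
    have hηc : η ⤳ c := by
      have h := ((PrimeSpectrum.le_iff_specializes (⟨⊥, Ideal.isPrime_bot⟩ : PrimeSpectrum Γ(C, U'))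
        (hU'.primeIdealOf ⟨c, hSc⟩)).mp bot_le).map hU'.fromSpec.continuous
      rwa [hU'.fromSpec_primeIdealOf ⟨c, hSc⟩] at h
    exact hηc.mem_closed hcl ⟨w.1, hw'⟩
  have hzU : z ∈ g ⁻¹ᵁ U' := (show g z ∈ U' from hz.symm ▸ hSc)
  obtain ⟨h1, h2⟩ := piece U' hU' hSc (g ⁻¹ᵁ U') hWaff le_rfl z hzU hz
  refine BirFinite.exists_isIso_of_denominators g hU' hWaff ?_ hSc fun b => ?_
  · refine (injective_iff_map_eq_zero _).mpr fun a ha => hinjU' ?_
    rw [map_zero]
    exact h1 a (by rw [← Scheme.Hom.app_eq_appLE]; exact ha)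
  · obtain ⟨s, a, hs, h⟩ := h2 b
    refine ⟨s, a, (C.mem_basicOpen s c hSc).mpr hs, ?_⟩
    rwa [← Scheme.Hom.app_eq_appLE] at h

end Groth.Agent.Models24.DVRPoint
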